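import Groth.Agent.Lib.Lead.HF.Local

/-! # The kernel of `Γ(U, F) → Γ(U, F/I^nF)` for an arbitrary base ring

On a Noetherian scheme over an arbitrary ring `A`, the ideal sheaf `I^n O_X` is generated by
finitely many elements of `I^n`; hence the sections of `F/I^nF` over affine opens are the expected
quotients. -/

set_option autoImplicit false
set_option linter.style.haveILetI false
universe u
open CategoryTheory Limits AlgebraicGeometry TopologicalSpace Opposite

noncomputable section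

namespace Groth.Agent.LD.HF

open Groth.Agent.LD Groth.Agent.H2.FormalEq Groth.Agent.H2.FormalQ

variable {A : Type u} [CommRing A] {X : Scheme.{u}} [X.Over (Spec (CommRingCat.of A))]

/-- the submodule generated by the multiples by a set of elements of `A`. -/
def mulSpan (F : X.Modules) (U : X.Opens) (T : Set A) : Submodule Γ(X, U) Γ(F, U) :=
  Submodule.span Γ(X, U) {m | ∃ b ∈ T, ∃ p : Γ(F, U), m = φU U b • p}

lemma mulSpan_mono (F : X.Modules) (U : X.Opens) {T T' : Set A} (h : T ⊆ T') :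
    mulSpan F U T ≤ mulSpan F U T' :=
  Submodule.span_mono fun _ ⟨b, hb, p, hp⟩ => ⟨b, h hb, p, hp⟩

lemma exists_finset_span (𝔍 : Ideal A) (F : X.Modules) (U : X.Opens)
    [IsNoetherian Γ(X, U) Γ(F, U)] :
    ∃ T : Finset A, (∀ b ∈ T, b ∈ 𝔍) ∧ mulSpan F U (𝔍 : Set A) ≤ mulSpan F U (T : Set A) := by
  classical
  have hfg : (mulSpan F U (𝔍 : Set A)).FG := IsNoetherian.noetherian _
  obtain ⟨s', hs's, hs'⟩ := (Submodule.fg_span_iff_fg_span_finset_subset _).1 hfg
  choose! a ha p hp using fun (m : Γ(F, U))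
    (hm : m ∈ {m | ∃ b ∈ (𝔍 : Set A), ∃ p : Γ(F, U), m = φU U b • p}) => hm
  refine ⟨s'.image a, ?_, ?_⟩
  · intro b hb
    obtain ⟨m, hm, rfl⟩ := Finset.mem_image.1 hb
    exact ha m (hs's hm)
  · change Submodule.span _ _ ≤ _
    rw [hs']
    refine Submodule.span_le.2 ?_
    intro m hm
    exact Submodule.subset_span
      ⟨a m, Finset.mem_coe.2 (Finset.mem_image_of_mem a hm), p m, hp m (hs's hm)⟩

lemma exists_finset_affineOpens_cover' (X : Scheme.{u}) [CompactSpace X] :
    ∃ t : Finset X.affineOpens, ∀ x : X, ∃ V ∈ t, x ∈ V.1 := by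
  obtain ⟨t, ht⟩ := isCompact_univ.elim_finite_subcover
    (fun V : X.affineOpens => (V.1 : Set X)) (fun V => V.1.2) (by
      intro x _
      obtain ⟨_, ⟨V, hV, rfl⟩, hxV, -⟩ := X.isBasis_affineOpens.exists_subset_of_mem_open
        (Set.mem_univ x) isOpen_univ
      exact Set.mem_iUnion.2 ⟨⟨V, hV⟩, hxV⟩)
  refine ⟨t, fun x => ?_⟩
  obtain ⟨V, hV⟩ := Set.mem_iUnion.1 (ht (Set.mem_univ x))
  obtain ⟨hVt, hxV⟩ := Set.mem_iUnion.1 hV
  exact ⟨V, hVt, hxV⟩

variable [CompactSpace X] [IsLocallyNoetherian X]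

lemma exists_finset_global (𝔍 : Ideal A) (F : X.Modules) (hF : Coh.IsCoh F) :
    ∃ (t : Finset X.affineOpens) (T : Finset A), (∀ x : X, ∃ V ∈ t, x ∈ V.1) ∧
      (∀ b ∈ T, b ∈ 𝔍) ∧
      ∀ V ∈ t, mulSpan F V.1 (𝔍 : Set A) ≤ mulSpan F V.1 (T : Set A) := by
  classical
  haveI : F.IsQuasicoherent := hF.1
  obtain ⟨t, ht⟩ := exists_finset_affineOpens_cover' X
  have hN : ∀ V : X.affineOpens, IsNoetherian Γ(X, V.1) Γ(F, V.1) := by
    intro V
    haveI : IsNoetherianRing Γ(X, V.1) := IsLocallyNoetherian.component_noetherian V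
    haveI : Module.Finite Γ(X, V.1) Γ(F, V.1) := QC.finite_sections_of_isFiniteType F hF.2 V.2
    exact isNoetherian_of_isNoetherianRing_of_finite _ _
  choose T hT hTs using fun V : X.affineOpens =>
    haveI := hN V
    exists_finset_span 𝔍 F V.1
  refine ⟨t, t.biUnion T, ht, ?_, ?_⟩
  · intro b hb
    obtain ⟨V, _, hbV⟩ := Finset.mem_biUnion.1 hb
    exact hT V b hbV
  · intro V hV
    refine (hTs V).trans (mulSpan_mono F V.1 ?_)
    intro b hb
    exact Finset.mem_coe.2 (Finset.mem_biUnion.2 ⟨V, hV, hb⟩)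

/-- a morphism killing finitely many well chosen elements of `𝔍` kills `𝔍`. -/
lemma comp_eq_zero_of_finset (𝔍 : Ideal A) (F : X.Modules) (hF : F.IsQuasicoherent)
    (t : Finset X.affineOpens) (T : Finset A) (ht : ∀ x : X, ∃ V ∈ t, x ∈ V.1)
    (hTs : ∀ V ∈ t, mulSpan F V.1 (𝔍 : Set A) ≤ mulSpan F V.1 (T : Set A))
    {Z : X.Modules} (g : F ⟶ Z) (hg : ∀ b ∈ T, Formal.smulMod A F b ≫ g = 0)
    (a : A) (ha : a ∈ 𝔍) : Formal.smulMod A F a ≫ g = 0 := by
  haveI := hF
  apply Scheme.Modules.hom_ext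
  intro W
  ext s
  change g.app W ((Formal.smulMod A F a).app W s) = 0
  choose V hVt hxV using fun x : W => ht x.1
  choose f hfW hxf using fun x : W =>
    (V x).2.exists_basicOpen_le (V := W) ⟨x.1, x.2⟩ (hxV x)
  refine QC.section_ext_of_cover Z (fun x : W => X.basicOpen (f x)) hfW ?_ _ 0 ?_
  · intro x hx
    exact Opens.mem_iSup.2 ⟨⟨x, hx⟩, hxf ⟨x, hx⟩⟩
  · intro x
    rw [map_zero, ← QC.app_res, ← QC.app_res]
    obtain ⟨k, p, hp⟩ := QC.affine_surj F (V x).2 (f x)
      (F.presheaf.map (homOfLE (hfW x)).op s)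
    have hu : IsUnit (X.presheaf.map (homOfLE (X.basicOpen_le (f x))).op (f x)) :=
      RingedSpace.isUnit_res_basicOpen _ (f x)
    refine ((hu.pow k).smul_eq_zero).1 ?_
    rw [← Scheme.Modules.Hom.app_smul, ← Scheme.Modules.Hom.app_smul, ← hp, QC.app_res,
      QC.app_res]
    have hkill : mulSpan F (V x).1 (T : Set A) ≤ LinearMap.ker (QC.appLinear g (V x).1) := by
      refine Submodule.span_le.2 ?_
      rintro m ⟨b, hb, p', rfl⟩
      change g.app (V x).1 (φU (V x).1 b • p') = 0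
      rw [← smulMod_app']
      exact congrArg (fun φ => (Scheme.Modules.Hom.app φ (V x).1) p')
        (hg b (Finset.mem_coe.1 hb))
    have hmem : (Formal.smulMod A F a).app (V x).1 p ∈ mulSpan F (V x).1 (T : Set A) := by
      apply hTs (V x) (hVt x)
      rw [smulMod_app']
      exact Submodule.subset_span ⟨a, ha, p, rfl⟩
    have h0 : g.app (V x).1 ((Formal.smulMod A F a).app (V x).1 p) = 0 := hkill hmem
    rw [h0, map_zero]

/-- **the kernel of `Γ(U, F) → Γ(U, F/I^nF)`** over an affine open of a Noetherian scheme, for an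
arbitrary base ring. -/
theorem mem_of_modPowπ_eq_zero' (I : Ideal A) (F : X.Modules) (hF : Coh.IsCoh F)
    {U : X.Opens} (hU : IsAffineOpen U) (n : ℕ) (q : Γ(F, U))
    (hq : (Formal.modPowπ I n F).app U q = 0) :
    q ∈ ((Ideal.map (φU U) I) ^ n • ⊤ : Submodule Γ(X, U) Γ(F, U)) := by
  classical
  obtain ⟨t, T, ht, hT, hTs⟩ := exists_finset_global (I ^ n) F hF
  obtain ⟨hepi, hk0, hu0⟩ := (isQ_iff (I ^ n) _).1 (isQ_modPowπ I n F)
  have hle : Ideal.span (T : Set A) ≤ I ^ n := Ideal.span_le.2 fun b hb => hT b hb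
  have hQ : IsQ (Ideal.span (T : Set A)) (Formal.modPowπ I n F) := by
    rw [isQ_iff]
    refine ⟨hepi, fun b hb => hk0 b (hle hb), fun {Z} g hg => ?_⟩
    exact hu0 g (fun a ha => comp_eq_zero_of_finset (I ^ n) F hF.1 t T ht hTs g
      (fun b hb => hg b (Ideal.subset_span hb)) a ha)
  let d : Fin T.card → A := fun i => ((T.equivFin).symm i).1
  have hd : Ideal.span (Set.range d) = Ideal.span (T : Set A) := by
    congr 1
    ext b
    constructor
    · rintro ⟨i, rfl⟩
      exact ((T.equivFin).symm i).2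
    · intro hb
      exact ⟨T.equivFin ⟨b, hb⟩, by simp [d]⟩
  obtain ⟨p, hp⟩ := NF.exists_sum_of_isQ (Ideal.span (T : Set A)) d hd hF.1
    (isCoh_modPow I n hF).1 (Formal.modPowπ I n F) hQ hU q hq
  rw [hp]
  refine Submodule.sum_mem _ fun i _ => ?_
  rw [smulMod_app']
  refine Submodule.smul_mem_smul ?_ Submodule.mem_top
  rw [← Ideal.map_pow]
  exact Ideal.mem_map_of_mem _ (hT _ ((T.equivFin).symm i).2)

end Groth.Agent.LD.HF
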