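import Groth.Agent.Lib.Lead.HF.Main
import Groth.Agent.Lib.Lead.HF.Ker
import Groth.Agent.Lib.Lead.QC.InvBasis
import Groth.Agent.Lib.Lead.QC.LocFree
import Groth.Agent.Lib.Lead.Curve.DegMono

/-! # Full faithfulness of completion: torsion modules and finite locally free modules -/

set_option autoImplicit false
set_option linter.style.haveILetI false
universe u
open CategoryTheory Limits AlgebraicGeometry TopologicalSpace Opposite

noncomputable section

namespace Groth.Agent.LD.HF

open Groth.Agent.H2.HomSh Groth.Agent.LD Groth.Agent.H2.FormalEq Groth.Agent.H2.FormalQ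

attribute [-instance] Groth.Agent.LD.QC.stalkModule

variable {A : Type u} [CommRing A] (I : Ideal A) {X : Scheme.{u}}
  [X.Over (Spec (CommRingCat.of A))]

section Killed

variable (F : X.Modules) (c : ℕ) (hF : Formal.KilledBy (I ^ c) F)

include hF in
lemma isIso_modPowπ_of_killedBy {n : ℕ} (h : c ≤ n) : IsIso (Formal.modPowπ I n F) :=
  isIso_of_isQ_of_killedBy (isQ_modPowπ I n F) (killedBy_mono (Ideal.pow_le_pow_right h) hF)

include hF in
lemma injective_trans_of_killedBy {n : ℕ} (h : c ≤ n) :
    Function.Injective ((Formal.modPowTrans I n F).app ⊤) := by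
  haveI := isIso_modPowπ_of_killedBy I F c hF h
  haveI := isIso_modPowπ_of_killedBy I F c hF (h.trans (Nat.le_succ n))
  haveI : IsIso (Formal.modPowTrans I n F) := by
    have e : Formal.modPowTrans I n F =
        inv (Formal.modPowπ I (n + 1) F) ≫ Formal.modPowπ I n F := by
      rw [IsIso.eq_inv_comp, Formal.modPowπ_trans]
    rw [e]
    infer_instance
  exact (QC.app_bijective_of_isIso (Formal.modPowTrans I n F) ⊤).1

include hF in
/-- for a module killed by a power of `I`, compatible systems of global sections of the quotients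
lift uniquely. -/
theorem sections_of_killedBy :
    (∀ x : ∀ k, Γ(Formal.modPow I (k + 1) F, ⊤),
      (∀ k, (Formal.modPowTrans I (k + 1) F).app ⊤ (x (k + 1)) = x k) →
      ∃ s : Γ(F, ⊤), ∀ k, (Formal.modPowπ I (k + 1) F).app ⊤ s = x k) ∧
    (∀ s s' : Γ(F, ⊤), (∀ k, (Formal.modPowπ I (k + 1) F).app ⊤ s =
      (Formal.modPowπ I (k + 1) F).app ⊤ s') → s = s') := by
  haveI := isIso_modPowπ_of_killedBy I F c hF (Nat.le_succ c)
  have hb := QC.app_bijective_of_isIso (Formal.modPowπ I (c + 1) F) ⊤
  refine ⟨fun x hx => ?_, fun s s' h => hb.1 (h c)⟩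
  obtain ⟨s, hs⟩ := hb.2 (x c)
  refine ⟨s, ?_⟩
  have hπ : ∀ k, (Formal.modPowTrans I (k + 1) F).app ⊤
      ((Formal.modPowπ I (k + 1 + 1) F).app ⊤ s) = (Formal.modPowπ I (k + 1) F).app ⊤ s :=
    fun k => congrArg (fun φ => (Scheme.Modules.Hom.app φ ⊤) s) (Formal.modPowπ_trans I (k + 1) F)
  have hdown : ∀ d k, k + d = c → (Formal.modPowπ I (k + 1) F).app ⊤ s = x k := by
    intro d
    induction d with
    | zero =>
      intro k hk
      rw [Nat.add_zero] at hk
      subst hk
      exact hs
    | succ d ih =>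
      intro k hk
      have h1 := ih (k + 1) (by omega)
      rw [← hπ k, h1, hx k]
  have hup : ∀ d, (Formal.modPowπ I (c + d + 1) F).app ⊤ s = x (c + d) := by
    intro d
    induction d with
    | zero => exact hs
    | succ d ih =>
      apply injective_trans_of_killedBy I F c hF (n := c + d + 1) (by omega)
      exact (hπ (c + d)).trans (ih.trans (hx (c + d)).symm)
  intro k
  rcases le_total k c with h | h
  · obtain ⟨d, hd⟩ := Nat.exists_eq_add_of_le h
    exact hdown d k hd.symm
  · obtain ⟨d, rfl⟩ := Nat.exists_eq_add_of_le h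
    exact hup d

end Killed

variable [CompactSpace X] [IsLocallyNoetherian X] (M N : X.Modules)

/-- **S0833** -/
theorem existsUnique_hom_of_killedBy (hM : Coh.IsCoh M) (hN : Coh.IsCoh N) (c : ℕ)
    (hc : Formal.KilledBy (I ^ c) M ∨ Formal.KilledBy (I ^ c) N)
    (ψ : Formal.completion I M ⟶ Formal.completion I N) :
    ∃! φ : M ⟶ N, ∀ n : ℕ,
      Formal.modPowπ I (n + 1) M ≫ ψ.app (op n) = φ ≫ Formal.modPowπ I (n + 1) N := by
  have hH : Formal.KilledBy (I ^ c) (RefHull.homSh M N) :=
    hc.elim (killedBy_homSh_left N) (killedBy_homSh_right M)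
  obtain ⟨hE, hU⟩ := sections_of_killedBy I (RefHull.homSh M N) c hH
  exact existsUnique_hom' I M N hM hN
    (fun U k q hq => mem_of_modPowπ_eq_zero' I N hN U.2 (k + 1) q hq) hE hU ψ

omit [CompactSpace X] in
/-- the sheaf Hom of finite locally free modules is finite locally free. -/
theorem isFinLocFree_homSh (E E' : X.Modules) (hE : FlatMod.IsFinLocFree E)
    (hE' : FlatMod.IsFinLocFree E') : FlatMod.IsFinLocFree (RefHull.homSh E E') := by
  have hcE := Curve.isCoh_of_isFinLocFree hE
  have hcE' := Curve.isCoh_of_isFinLocFree hE'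
  have hH := isCoh_homSh hcE hcE'
  haveI : E.IsQuasicoherent := hcE.1
  refine QC.isFinLocFree_of_free_stalks _ (QC.isFinitePresentation_of_qc_ft _ hH.1 hH.2) ?_
  intro x
  obtain ⟨U, hU, hxU, -⟩ := exists_isAffineOpen_mem_and_subset (x := x) (U := ⊤) trivial
  haveI : Module.Finite (X.presheaf.stalk x) (E.presheaf.stalk x) :=
    QC.finite_stalk_of_finite_sections E hU x hxU
      (QC.finite_sections_of_isFiniteType E hcE.2 hU)
  haveI : Module.Free (X.presheaf.stalk x) (E.presheaf.stalk x) :=
    QC.free_stalk_of_isFinLocFree E hE x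
  haveI : Module.Free (X.presheaf.stalk x) (E'.presheaf.stalk x) :=
    QC.free_stalk_of_isFinLocFree E' hE' x
  have hb := evalStalk_bijective (F := E) (G := E')
    (QC.isFinitePresentation_of_qc_ft E hcE.1 hcE.2) x
  exact Module.Free.of_equiv (LinearEquiv.ofBijective (RefHull.evalStalk E E' x) hb).symm

/-- **S0840** -/
theorem existsUnique_hom_of_finLocFree
    (h : ∀ E : X.Modules, FlatMod.IsFinLocFree E → Function.Bijective (Formal.toHHlim I E 0))
    (E E' : X.Modules) (hE : FlatMod.IsFinLocFree E) (hE' : FlatMod.IsFinLocFree E')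
    (ψ : Formal.completion I E ⟶ Formal.completion I E') :
    ∃! φ : E ⟶ E', ∀ n : ℕ,
      Formal.modPowπ I (n + 1) E ≫ ψ.app (op n) = φ ≫ Formal.modPowπ I (n + 1) E' :=
  existsUnique_hom I E E' (Curve.isCoh_of_isFinLocFree hE) (Curve.isCoh_of_isFinLocFree hE')
    (fun U k q hq => mem_of_modPowπ_eq_zero' I E' (Curve.isCoh_of_isFinLocFree hE') U.2 (k + 1) q hq)
    (h _ (isFinLocFree_homSh E E' hE hE')) ψ

end Groth.Agent.LD.HF
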