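import Groth.Agent.Lib.Helper2.HomSh4
import Groth.Agent.Lib.Helper2.FormalEq2
import Groth.Agent.Lib.Lead.QC.HomAffine
import Groth.Agent.Lib.Lead.FF.IdealMul

/-! # The sheaf Hom: functoriality in the second variable, global sections, completion -/

set_option autoImplicit false
set_option linter.style.haveILetI false
noncomputable section
universe u
open CategoryTheory Limits AlgebraicGeometry TopologicalSpace Opposite

namespace Groth.Agent.LD.HF

open Groth.Agent.H2.HomSh Groth.Agent.LD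

attribute [-instance] Groth.Agent.LD.QC.stalkModule

variable {X : Scheme.{u}} {M N N' N'' : X.Modules}

lemma stalkMapₗ_comp (ν : N ⟶ N') (ν' : N' ⟶ N'') (x : X) :
    RefHull.stalkMapₗ (ν ≫ ν') x = (RefHull.stalkMapₗ ν' x).comp (RefHull.stalkMapₗ ν x) := by
  apply LinearMap.ext
  intro v
  obtain ⟨W, hx, m, rfl⟩ := TopCat.Presheaf.exists_germ_eq N.presheaf v
  rw [LinearMap.comp_apply, RefHull.stalkMapₗ_germ, RefHull.stalkMapₗ_germ,
    RefHull.stalkMapₗ_germ]
  rfl

/-- postcomposition of a section of the sheaf Hom with a morphism. -/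
def postSec (ν : N ⟶ N') {U : X.Opens} (g : Γ(RefHull.homSh M N, U)) :
    Γ(RefHull.homSh M N', U) :=
  ⟨fun x => (RefHull.stalkMapₗ ν x.1).comp (g.1 x), fun V i m x => by
    obtain ⟨W, hxW, j, n, hW⟩ := g.2 V i m x
    refine ⟨W, hxW, j, ν.app W n, fun y => ?_⟩
    rw [LinearMap.comp_apply, hW y]
    exact RefHull.stalkMapₗ_germ ν y.1 y.2 n⟩

lemma postSec_val (ν : N ⟶ N') {U : X.Opens} (g : Γ(RefHull.homSh M N, U)) (x : U) :
    (postSec ν g).1 x = (RefHull.stalkMapₗ ν x.1).comp (g.1 x) := rfl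

lemma app_postSec (ν : N ⟶ N') {U : X.Opens} (g : Γ(RefHull.homSh M N, U)) {V : X.Opens}
    (hVU : V ≤ U) (m : Γ(M, V)) :
    app (postSec ν g) hVU m = ν.app V (app g hVU m) := by
  apply app_eq_of_germ
  intro y hy
  change N'.presheaf.germ V y hy _ =
    RefHull.stalkMapₗ ν y (g.1 ⟨y, hVU hy⟩ (M.presheaf.germ V y hy m))
  rw [← germ_app g hVU m y hy, RefHull.stalkMapₗ_germ]

lemma postSec_ofHom (φ : M ⟶ N) (ν : N ⟶ N') (U : X.Opens) :
    postSec ν (RefHull.ofHom φ U) = RefHull.ofHom (φ ≫ ν) U := by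
  apply hom_ext
  intro x hx
  change (RefHull.stalkMapₗ ν x).comp (RefHull.stalkMapₗ φ x) = RefHull.stalkMapₗ (φ ≫ ν) x
  rw [stalkMapₗ_comp]

lemma postSec_comp (ν : N ⟶ N') (ν' : N' ⟶ N'') {U : X.Opens} (g : Γ(RefHull.homSh M N, U)) :
    postSec (ν ≫ ν') g = postSec ν' (postSec ν g) := by
  apply hom_ext
  intro x hx
  change (RefHull.stalkMapₗ (ν ≫ ν') x).comp (g.1 ⟨x, hx⟩) =
    (RefHull.stalkMapₗ ν' x).comp ((RefHull.stalkMapₗ ν x).comp (g.1 ⟨x, hx⟩))
  rw [stalkMapₗ_comp, LinearMap.comp_assoc]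

/-- postcomposition as an additive map. -/
def postAdd (M : X.Modules) (ν : N ⟶ N') (U : X.Opens) :
    Γ(RefHull.homSh M N, U) →+ Γ(RefHull.homSh M N', U) where
  toFun g := postSec ν g
  map_zero' := hom_ext _ _ fun x hx => by
    change (RefHull.stalkMapₗ ν x).comp 0 = 0
    exact LinearMap.comp_zero _
  map_add' g g' := hom_ext _ _ fun x hx => by
    change (RefHull.stalkMapₗ ν x).comp (g.1 ⟨x, hx⟩ + g'.1 ⟨x, hx⟩) =
      (RefHull.stalkMapₗ ν x).comp (g.1 ⟨x, hx⟩) + (RefHull.stalkMapₗ ν x).comp (g'.1 ⟨x, hx⟩)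
    exact LinearMap.comp_add _ _ _

/-- postcomposition as a morphism of abelian presheaves. -/
def postPre (M : X.Modules) (ν : N ⟶ N') :
    (RefHull.homSh M N).presheaf ⟶ (RefHull.homSh M N').presheaf where
  app U := AddCommGrpCat.ofHom (postAdd M ν U.unop)
  naturality U V i := by
    ext g
    rfl

lemma postPre_smul (M : X.Modules) (ν : N ⟶ N') (U : X.Opens) (r : Γ(X, U))
    (g : Γ(RefHull.homSh M N, U)) :
    (postPre M ν).app (op U) (r • g) = r • (postPre M ν).app (op U) g := by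
  apply hom_ext
  intro x hx
  change (RefHull.stalkMapₗ ν x).comp (X.presheaf.germ U x hx r • g.1 ⟨x, hx⟩) =
    X.presheaf.germ U x hx r • (RefHull.stalkMapₗ ν x).comp (g.1 ⟨x, hx⟩)
  exact LinearMap.comp_smul _ _ _

/-- **functoriality of the sheaf Hom in the second variable.** -/
def postHom (M : X.Modules) (ν : N ⟶ N') :
    RefHull.homSh M N ⟶ RefHull.homSh M N' :=
  ⟨PresheafOfModules.homMk (postPre M ν) (fun U r g => postPre_smul M ν U.unop r g)⟩

lemma postHom_app (M : X.Modules) (ν : N ⟶ N') (U : X.Opens) (g : Γ(RefHull.homSh M N, U)) :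
    (postHom M ν).app U g = postSec ν g := rfl

lemma postHom_comp (M : X.Modules) (ν : N ⟶ N') (ν' : N' ⟶ N'') :
    postHom M (ν ≫ ν') = postHom M ν ≫ postHom M ν' := by
  apply Scheme.Modules.hom_ext
  intro U
  ext g
  exact postSec_comp ν ν' g

/-! ### global sections of the sheaf Hom are morphisms -/

/-- the morphism defined by a global section of the sheaf Hom. -/
def homOfSec (g : Γ(RefHull.homSh M N, ⊤)) : M ⟶ N :=
  QC.homOfAffine M N (fun U => appLin g le_top)
    (fun U V h s => (app_res g le_top h s).symm)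

lemma homOfSec_app (g : Γ(RefHull.homSh M N, ⊤)) (U : X.affineOpens) (s : Γ(M, U.1)) :
    (homOfSec g).app U.1 s = app g le_top s :=
  QC.homOfAffine_app M N _ _ U s

lemma ofHom_homOfSec (g : Γ(RefHull.homSh M N, ⊤)) : RefHull.ofHom (homOfSec g) ⊤ = g := by
  apply hom_ext
  intro x hx
  change RefHull.stalkMapₗ (homOfSec g) x = g.1 ⟨x, hx⟩
  apply LinearMap.ext
  intro v
  obtain ⟨W, hxW, m, rfl⟩ := TopCat.Presheaf.exists_germ_eq M.presheaf v
  obtain ⟨U, hU, hxU, hUW⟩ := exists_isAffineOpen_mem_and_subset (x := x) (U := W) hxW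
  rw [← TopCat.Presheaf.germ_res_apply M.presheaf (homOfLE hUW) x hxU m,
    RefHull.stalkMapₗ_germ, homOfSec_app g ⟨U, hU⟩, germ_app]

lemma homOfSec_ofHom (φ : M ⟶ N) : homOfSec (RefHull.ofHom φ ⊤) = φ := by
  apply QC.hom_ext_affine
  intro U s
  rw [homOfSec_app, app_ofHom]

lemma ofHom_top_injective : Function.Injective (fun φ : M ⟶ N => RefHull.ofHom φ ⊤) := by
  intro φ φ' h
  rw [← homOfSec_ofHom φ, ← homOfSec_ofHom φ']
  exact congrArg homOfSec h

/-! ### ideals -/

section Ideal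

variable {A : Type u} [CommRing A] [X.Over (Spec (CommRingCat.of A))]

open Groth.Agent.H2.FormalEq Groth.Agent.H2.FormalQ

lemma germ_φU_smul_eq_zero {J : Ideal A} {Z : X.Modules} (h : Formal.KilledBy J Z) (a : A)
    (ha : a ∈ J) (U : X.Opens) (x : X) (hx : x ∈ U) (v : Z.presheaf.stalk x) :
    X.presheaf.germ U x hx (φU U a) • v = 0 := by
  obtain ⟨W, hxW, t, rfl⟩ := TopCat.Presheaf.exists_germ_eq Z.presheaf v
  rw [← TopCat.Presheaf.germ_res_apply X.presheaf (homOfLE (inf_le_left : U ⊓ W ≤ U)) x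
      ⟨hx, hxW⟩,
    ← TopCat.Presheaf.germ_res_apply Z.presheaf (homOfLE (inf_le_right : U ⊓ W ≤ W)) x
      ⟨hx, hxW⟩,
    ← Mero.germ_smul, res_φU, ← smulMod_app', h a ha]
  exact map_zero _

lemma killedBy_homSh_right {J : Ideal A} (M : X.Modules) {Z : X.Modules}
    (h : Formal.KilledBy J Z) : Formal.KilledBy J (RefHull.homSh M Z) := by
  intro a ha
  apply Scheme.Modules.hom_ext
  intro U
  ext g
  change (Formal.smulMod A (RefHull.homSh M Z) a).app U g = 0
  rw [smulMod_app']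
  apply hom_ext
  intro x hx
  apply LinearMap.ext
  intro v
  change X.presheaf.germ U x hx (φU U a) • (g.1 ⟨x, hx⟩ v) = 0
  exact germ_φU_smul_eq_zero h a ha U x hx _

lemma killedBy_homSh_left {J : Ideal A} {Z : X.Modules} (N : X.Modules)
    (h : Formal.KilledBy J Z) : Formal.KilledBy J (RefHull.homSh Z N) := by
  intro a ha
  apply Scheme.Modules.hom_ext
  intro U
  ext g
  change (Formal.smulMod A (RefHull.homSh Z N) a).app U g = 0
  rw [smulMod_app']
  apply hom_ext
  intro x hx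
  apply LinearMap.ext
  intro v
  change X.presheaf.germ U x hx (φU U a) • (g.1 ⟨x, hx⟩ v) = 0
  rw [← map_smul, germ_φU_smul_eq_zero h a ha U x hx v, map_zero]

variable (I : Ideal A) (M N)

/-- the comparison `𝓗om(M, N)/I^{k+1} → 𝓗om(M, N/I^{k+1}N)`. -/
def cmp (k : ℕ) :
    Formal.modPow I (k + 1) (RefHull.homSh M N) ⟶ RefHull.homSh M (Formal.modPow I (k + 1) N) :=
  cokernel.desc _ (postHom M (Formal.modPowπ I (k + 1) N)) (by
    rw [smulFamily_comp_eq_zero_iff]
    intro b hb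
    rw [← FF.comp_smulMod,
      killedBy_homSh_right M (killedBy_modPow I (k + 1) N) b hb, comp_zero])

lemma π_cmp (k : ℕ) :
    Formal.modPowπ I (k + 1) (RefHull.homSh M N) ≫ cmp M N I k =
      postHom M (Formal.modPowπ I (k + 1) N) :=
  cokernel.π_desc _ _ _

lemma cmp_app_π (k : ℕ) (U : X.Opens) (g : Γ(RefHull.homSh M N, U)) :
    (cmp M N I k).app U ((Formal.modPowπ I (k + 1) (RefHull.homSh M N)).app U g) =
      postSec (Formal.modPowπ I (k + 1) N) g :=
  congrArg (fun φ => (Scheme.Modules.Hom.app φ U) g) (π_cmp M N I k)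

instance (k : ℕ) (F : X.Modules) : Epi (Formal.modPowπ I k F) := by
  change Epi (cokernel.π _)
  infer_instance

lemma cmp_trans (k : ℕ) :
    cmp M N I (k + 1) ≫ postHom M (Formal.modPowTrans I (k + 1) N) =
      Formal.modPowTrans I (k + 1) (RefHull.homSh M N) ≫ cmp M N I k := by
  rw [← cancel_epi (Formal.modPowπ I (k + 1 + 1) (RefHull.homSh M N)), ← Category.assoc,
    π_cmp, ← postHom_comp, Formal.modPowπ_trans, ← Category.assoc, Formal.modPowπ_trans, π_cmp]

end Ideal

end Groth.Agent.LD.HF
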