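import Groth.Agent.Lib.Lead.HF.Alg
import Groth.Agent.Lib.Lead.HF.Sheaf
import Groth.Agent.Lib.Lead.NF.Lift

/-! # The comparison `lim 𝓗om(M, N)/I^{k+1} → lim 𝓗om(M, N/I^{k+1}N)` over an affine open -/

set_option autoImplicit false
set_option linter.style.haveILetI false
universe u
open CategoryTheory Limits AlgebraicGeometry TopologicalSpace Opposite

noncomputable section

namespace Groth.Agent.LD.HF

open Groth.Agent.H2.HomSh Groth.Agent.LD Groth.Agent.H2.FormalEq Groth.Agent.H2.FormalQ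

attribute [-instance] Groth.Agent.LD.QC.stalkModule

variable {A : Type u} [CommRing A] {X : Scheme.{u}} [X.Over (Spec (CommRingCat.of A))]

/-- elements of `(I Γ(X, U))^n` kill the sections over `U` of a module killed by `I^n`. -/
lemma smul_eq_zero_of_mem_map_pow (I : Ideal A) (n : ℕ) {Z : X.Modules}
    (hZ : Formal.KilledBy (I ^ n) Z) (U : X.Opens) (r : Γ(X, U))
    (hr : r ∈ (Ideal.map (φU U) I) ^ n) (y : Γ(Z, U)) : r • y = 0 := by
  rw [← Ideal.map_pow] at hr
  revert y
  refine Submodule.span_induction (p := fun r _ => ∀ y : Γ(Z, U), r • y = 0) ?_ ?_ ?_ ?_ hr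
  · rintro _ ⟨a, ha, rfl⟩ y
    rw [← smulMod_app', hZ a ha]
    rfl
  · intro y
    exact zero_smul _ y
  · intro r r' _ _ h h' y
    rw [add_smul, h, h', add_zero]
  · intro b r _ h y
    rw [smul_eq_mul, mul_smul, h, smul_zero]

/-- the kernel of `Γ(U, N) → Γ(U, N/I^{k+1}N)` over an affine open, for a Noetherian base ring. -/
lemma mem_of_modPowπ_eq_zero [IsNoetherianRing A] (I : Ideal A) (N : X.Modules) (hN : Coh.IsCoh N)
    {U : X.Opens} (hU : IsAffineOpen U) (n : ℕ) (q : Γ(N, U))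
    (hq : (Formal.modPowπ I n N).app U q = 0) :
    q ∈ ((Ideal.map (φU U) I) ^ n • ⊤ : Submodule Γ(X, U) Γ(N, U)) := by
  obtain ⟨m, d, hd⟩ := Submodule.fg_iff_exists_fin_generating_family.1
    (IsNoetherian.noetherian (I ^ n))
  obtain ⟨p, hp⟩ := NF.exists_sum_of_isQ (I ^ n) d hd hN.1 (isCoh_modPow I n hN).1
    (Formal.modPowπ I n N) (isQ_modPowπ I n N) hU q hq
  rw [hp]
  refine Submodule.sum_mem _ fun i _ => ?_
  rw [smulMod_app']
  refine Submodule.smul_mem_smul ?_ Submodule.mem_top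
  rw [← Ideal.map_pow]
  exact Ideal.mem_map_of_mem _ (hd ▸ Ideal.subset_span ⟨i, rfl⟩)

variable (I : Ideal A) [IsLocallyNoetherian X] (M N : X.Modules)

/-- **the comparison on an affine open.** -/
theorem local_bij (hM : Coh.IsCoh M) (hN : Coh.IsCoh N) {U : X.Opens} (hU : IsAffineOpen U)
    (hker : ∀ (k : ℕ) (q : Γ(N, U)), (Formal.modPowπ I (k + 1) N).app U q = 0 →
      q ∈ ((Ideal.map (φU U) I) ^ (k + 1) • ⊤ : Submodule Γ(X, U) Γ(N, U))) :
    (∀ x x' : ∀ k, Γ(Formal.modPow I (k + 1) (RefHull.homSh M N), U),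
      (∀ k, (Formal.modPowTrans I (k + 1) (RefHull.homSh M N)).app U (x (k + 1)) = x k) →
      (∀ k, (Formal.modPowTrans I (k + 1) (RefHull.homSh M N)).app U (x' (k + 1)) = x' k) →
      (∀ k, (cmp M N I k).app U (x k) = (cmp M N I k).app U (x' k)) → x = x') ∧
    (∀ t : ∀ k, Γ(RefHull.homSh M (Formal.modPow I (k + 1) N), U),
      (∀ k, (postHom M (Formal.modPowTrans I (k + 1) N)).app U (t (k + 1)) = t k) →
      ∃ x : ∀ k, Γ(Formal.modPow I (k + 1) (RefHull.homSh M N), U),
        (∀ k, (Formal.modPowTrans I (k + 1) (RefHull.homSh M N)).app U (x (k + 1)) = x k) ∧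
        ∀ k, (cmp M N I k).app U (x k) = t k) := by
  haveI : M.IsQuasicoherent := hM.1
  haveI : N.IsQuasicoherent := hN.1
  haveI : IsNoetherianRing Γ(X, U) := IsLocallyNoetherian.component_noetherian ⟨U, hU⟩
  haveI : Module.Finite Γ(X, U) Γ(M, U) := QC.finite_sections_of_isFiniteType M hM.2 hU
  haveI : Module.Finite Γ(X, U) Γ(N, U) := QC.finite_sections_of_isFiniteType N hN.2 hU
  have hH : Coh.IsCoh (RefHull.homSh M N) := isCoh_homSh hM hN
  have hNk : ∀ k, (Formal.modPow I (k + 1) N).IsQuasicoherent := fun k =>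
    (isCoh_modPow I (k + 1) hN).1
  have hHk : ∀ k, (Formal.modPow I (k + 1) (RefHull.homSh M N)).IsQuasicoherent := fun k =>
    (isCoh_modPow I (k + 1) hH).1
  -- the data
  let η : ∀ k, (Γ(M, U) →ₗ[Γ(X, U)] Γ(N, U)) →ₗ[Γ(X, U)]
      Γ(Formal.modPow I (k + 1) (RefHull.homSh M N), U) := fun k =>
    QC.appLinear (Formal.modPowπ I (k + 1) (RefHull.homSh M N)) U ∘ₗ
      (secEquiv (F := M) (G := N) hU).symm.toLinearMap
  let σ : ∀ k, Γ(Formal.modPow I (k + 1 + 1) (RefHull.homSh M N), U) →ₗ[Γ(X, U)]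
      Γ(Formal.modPow I (k + 1) (RefHull.homSh M N), U) := fun k =>
    QC.appLinear (Formal.modPowTrans I (k + 1) (RefHull.homSh M N)) U
  let ρ : ∀ k, Γ(N, U) →ₗ[Γ(X, U)] Γ(Formal.modPow I (k + 1) N, U) := fun k =>
    QC.appLinear (Formal.modPowπ I (k + 1) N) U
  let τ : ∀ k, Γ(Formal.modPow I (k + 1 + 1) N, U) →ₗ[Γ(X, U)]
      Γ(Formal.modPow I (k + 1) N, U) := fun k =>
    QC.appLinear (Formal.modPowTrans I (k + 1) N) U
  let c : ∀ k, Γ(Formal.modPow I (k + 1) (RefHull.homSh M N), U) →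
      (Γ(M, U) →ₗ[Γ(X, U)] Γ(Formal.modPow I (k + 1) N, U)) := fun k y =>
    secEquiv (F := M) (G := Formal.modPow I (k + 1) N) hU ((cmp M N I k).app U y)
  have hη : ∀ k, Function.Surjective (η k) := by
    intro k y
    obtain ⟨g, hg⟩ := QC.epi_app_affine hH.1 (hHk k)
      (Formal.modPowπ I (k + 1) (RefHull.homSh M N)) hU y
    refine ⟨secEquiv (F := M) (G := N) hU g, ?_⟩
    change (Formal.modPowπ I (k + 1) (RefHull.homSh M N)).app U
      ((secEquiv (F := M) (G := N) hU).symm (secEquiv (F := M) (G := N) hU g)) = y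
    rw [LinearEquiv.symm_apply_apply, hg]
  have hηk : ∀ k (h : Γ(M, U) →ₗ[Γ(X, U)] Γ(N, U)),
      h ∈ ((Ideal.map (φU U) I) ^ (k + 1) • ⊤ :
        Submodule Γ(X, U) (Γ(M, U) →ₗ[Γ(X, U)] Γ(N, U))) → η k h = 0 := by
    intro k h hh
    refine Submodule.smul_induction_on hh (fun r hr f _ => ?_) (fun f f' hf hf' => ?_)
    · rw [map_smul]
      exact smul_eq_zero_of_mem_map_pow I (k + 1) (killedBy_modPow I (k + 1) _) U r hr _
    · rw [map_add, hf, hf', add_zero]
  have hσ : ∀ k h, σ k (η (k + 1) h) = η k h := by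
    intro k h
    exact congrArg (fun φ => (Scheme.Modules.Hom.app φ U)
      ((secEquiv (F := M) (G := N) hU).symm h))
      (Formal.modPowπ_trans I (k + 1) (RefHull.homSh M N))
  have hρ : ∀ k, Function.Surjective (ρ k) := fun k =>
    QC.epi_app_affine hN.1 (hNk k) (Formal.modPowπ I (k + 1) N) hU
  have hρk : ∀ k q, ρ k q = 0 ↔
      q ∈ ((Ideal.map (φU U) I) ^ (k + 1) • ⊤ : Submodule Γ(X, U) Γ(N, U)) := by
    intro k q
    refine ⟨hker k q, fun hq => ?_⟩
    refine Submodule.smul_induction_on hq (fun r hr f _ => ?_) (fun f f' hf hf' => ?_)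
    · rw [map_smul]
      exact smul_eq_zero_of_mem_map_pow I (k + 1) (killedBy_modPow I (k + 1) _) U r hr _
    · rw [map_add, hf, hf', add_zero]
  have hτ : ∀ k q, τ k (ρ (k + 1) q) = ρ k q := by
    intro k q
    exact congrArg (fun φ => (Scheme.Modules.Hom.app φ U) q) (Formal.modPowπ_trans I (k + 1) N)
  have hc : ∀ k h, c k (η k h) = (ρ k).comp h := by
    intro k h
    apply LinearMap.ext
    intro p
    change app ((cmp M N I k).app U ((Formal.modPowπ I (k + 1) (RefHull.homSh M N)).app U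
      ((secEquiv (F := M) (G := N) hU).symm h))) le_rfl p = _
    rw [cmp_app_π, app_postSec, ← secEquiv_apply hU, LinearEquiv.apply_symm_apply]
    rfl
  constructor
  · intro x x' hx hx' hcx
    exact alg_inj (Ideal.map (φU U) I) η σ ρ c hη hηk hσ hρk hc x x' hx hx'
      (fun k => congrArg (secEquiv (F := M) (G := Formal.modPow I (k + 1) N) hU) (hcx k))
  · intro t ht
    have hψ : ∀ k, (τ k).comp
        (secEquiv (F := M) (G := Formal.modPow I (k + 1 + 1) N) hU (t (k + 1))) =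
        secEquiv (F := M) (G := Formal.modPow I (k + 1) N) hU (t k) := by
      intro k
      apply LinearMap.ext
      intro p
      rw [← ht k, postHom_app]
      change (Formal.modPowTrans I (k + 1) N).app U (app (t (k + 1)) le_rfl p) =
        app (postSec (Formal.modPowTrans I (k + 1) N) (t (k + 1))) le_rfl p
      rw [app_postSec]
    obtain ⟨x, hx, hcx⟩ := alg_surj (Ideal.map (φU U) I) η σ ρ τ c hηk hσ hρ hρk hτ hc
      (fun k => secEquiv (F := M) (G := Formal.modPow I (k + 1) N) hU (t k)) hψ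
    exact ⟨x, hx, fun k => (secEquiv (F := M) (G := Formal.modPow I (k + 1) N) hU).injective
      (hcx k)⟩

end Groth.Agent.LD.HF
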