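import Mathlib

/-! # Homomorphisms of finite modules and adic inverse systems (pure algebra)

For finite modules `P, Q` over a Noetherian ring `B` and an ideal `J`, the canonical map
`lim Hom(P, Q)/J^{k+1} → lim Hom(P, Q/J^{k+1}Q)` is bijective.  We state this for abstract
models of the quotients, as this is the form in which it is used for sheaves. -/

set_option autoImplicit false

namespace Groth.Agent.LD.HF

open Function

section AR

variable {B : Type*} [CommRing B]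

/-- a vector with all coordinates in `𝔞 Q` lies in `𝔞 Q^a`. -/
lemma pi_mem_smul_top {Q : Type*} [AddCommGroup Q] [Module B Q] (𝔞 : Ideal B) {a : ℕ}
    (w : Fin a → Q) (hw : ∀ i, w i ∈ (𝔞 • ⊤ : Submodule B Q)) :
    w ∈ (𝔞 • ⊤ : Submodule B (Fin a → Q)) := by
  rw [← Finset.univ_sum_single w]
  refine Submodule.sum_mem _ fun i _ => ?_
  have h1 : Pi.single i (w i) ∈
      Submodule.map (LinearMap.single B (fun _ : Fin a => Q) i) (𝔞 • ⊤) := ⟨w i, hw i, rfl⟩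
  rw [Submodule.map_smul''] at h1
  exact Submodule.smul_mono le_rfl le_top h1

/-- elements of `𝔞 • ⊤` in a module of homomorphisms take values in `𝔞 • ⊤`. -/
lemma apply_mem_of_mem_smul_top {K Q : Type*} [AddCommGroup K] [Module B K] [AddCommGroup Q]
    [Module B Q] (𝔞 : Ideal B) (h : K →ₗ[B] Q)
    (hh : h ∈ (𝔞 • ⊤ : Submodule B (K →ₗ[B] Q))) (x : K) :
    h x ∈ (𝔞 • ⊤ : Submodule B Q) := by
  refine Submodule.smul_induction_on hh (fun r hr f _ => ?_) (fun f f' hf hf' => ?_)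
  · rw [LinearMap.smul_apply]
    exact Submodule.smul_mem_smul hr Submodule.mem_top
  · rw [LinearMap.add_apply]
    exact Submodule.add_mem _ hf hf'

variable [IsNoetherianRing B] (J : Ideal B)

/-- **Artin–Rees for modules of homomorphisms.** -/
theorem arHom {K Q : Type*} [AddCommGroup K] [Module B K] [AddCommGroup Q] [Module B Q]
    [Module.Finite B K] [Module.Finite B Q] (N : Submodule B (K →ₗ[B] Q)) :
    ∃ c : ℕ, ∀ n : ℕ, ∀ h ∈ N, (∀ x, h x ∈ (J ^ (n + c) • ⊤ : Submodule B Q)) →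
      h ∈ J ^ n • N := by
  obtain ⟨a, g, hg⟩ := Module.Finite.exists_fin' B K
  let ev : (K →ₗ[B] Q) →ₗ[B] (Fin a → Q) :=
    LinearMap.pi fun i => LinearMap.applyₗ (g (Pi.single i 1))
  have hinj : Function.Injective ev := by
    intro h h' e
    have e2 : h.comp g = h'.comp g := by
      apply LinearMap.pi_ext'
      intro i
      apply LinearMap.ext_ring
      exact congrFun e i
    ext x
    obtain ⟨y, rfl⟩ := hg x
    exact LinearMap.congr_fun e2 y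
  obtain ⟨c, hc⟩ := Ideal.exists_pow_inf_eq_pow_smul J (N.map ev)
  refine ⟨c, fun n h hN hval => ?_⟩
  have h1 : ev h ∈ (J ^ (n + c) • ⊤ : Submodule B (Fin a → Q)) :=
    pi_mem_smul_top _ _ (fun i => hval _)
  have h2 : ev h ∈ J ^ (n + c) • ⊤ ⊓ N.map ev := ⟨h1, Submodule.mem_map_of_mem hN⟩
  rw [hc (n + c) (Nat.le_add_left c n), Nat.add_sub_cancel] at h2
  have h3 : ev h ∈ J ^ n • N.map ev := Submodule.smul_mono le_rfl inf_le_right h2
  rw [← Submodule.map_smul''] at h3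
  obtain ⟨h', hh', e⟩ := h3
  rwa [← hinj e]

end AR

section Main

variable {B : Type*} [CommRing B] [IsNoetherianRing B] (J : Ideal B)
  {P Q : Type*} [AddCommGroup P] [Module B P] [AddCommGroup Q] [Module B Q]
  [Module.Finite B P] [Module.Finite B Q]
  {Hk : ℕ → Type*} [∀ k, AddCommGroup (Hk k)] [∀ k, Module B (Hk k)]
  {Qk : ℕ → Type*} [∀ k, AddCommGroup (Qk k)] [∀ k, Module B (Qk k)]
  (η : ∀ k, (P →ₗ[B] Q) →ₗ[B] Hk k) (σ : ∀ k, Hk (k + 1) →ₗ[B] Hk k)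
  (ρ : ∀ k, Q →ₗ[B] Qk k) (τ : ∀ k, Qk (k + 1) →ₗ[B] Qk k)
  (c : ∀ k, Hk k → (P →ₗ[B] Qk k))

omit [IsNoetherianRing B] [Module.Finite B P] [Module.Finite B Q] in
lemma down_η (hσ : ∀ k h, σ k (η (k + 1) h) = η k h) (x : ∀ k, Hk k)
    (hx : ∀ k, σ k (x (k + 1)) = x k) (d k : ℕ) (h : P →ₗ[B] Q) :
    x (k + d) = η (k + d) h → x k = η k h := by
  induction d with
  | zero => exact fun h1 => h1
  | succ d ih =>
    intro h1
    apply ih
    rw [← hx (k + d), show x (k + d + 1) = η (k + d + 1) h from h1]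
    exact hσ (k + d) h

omit [IsNoetherianRing B] [Module.Finite B P] [Module.Finite B Q] in
lemma down_ρ (hτ : ∀ k q, τ k (ρ (k + 1) q) = ρ k q) (ψ : ∀ k, P →ₗ[B] Qk k)
    (hψ : ∀ k, (τ k).comp (ψ (k + 1)) = ψ k) (d k : ℕ) (p : P) (q : Q) :
    ψ (k + d) p = ρ (k + d) q → ψ k p = ρ k q := by
  induction d with
  | zero => exact fun h1 => h1
  | succ d ih =>
    intro h1
    apply ih
    rw [← hψ (k + d), LinearMap.comp_apply,
      show ψ (k + d + 1) p = ρ (k + d + 1) q from h1]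
    exact hτ (k + d) q

include J in
/-- injectivity of `lim Hom(P, Q)/J^{k+1} → lim Hom(P, Q/J^{k+1}Q)`. -/
theorem alg_inj (hη : ∀ k, Surjective (η k))
    (hηk : ∀ k (h : P →ₗ[B] Q), h ∈ (J ^ (k + 1) • ⊤ : Submodule B (P →ₗ[B] Q)) → η k h = 0)
    (hσ : ∀ k h, σ k (η (k + 1) h) = η k h)
    (hρk : ∀ k q, ρ k q = 0 ↔ q ∈ (J ^ (k + 1) • ⊤ : Submodule B Q))
    (hc : ∀ k h, c k (η k h) = (ρ k).comp h)
    (x x' : ∀ k, Hk k) (hx : ∀ k, σ k (x (k + 1)) = x k) (hx' : ∀ k, σ k (x' (k + 1)) = x' k)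
    (hcx : ∀ k, c k (x k) = c k (x' k)) : x = x' := by
  obtain ⟨c₀, hc₀⟩ := arHom J (⊤ : Submodule B (P →ₗ[B] Q))
  funext k
  obtain ⟨h, hh⟩ := hη (k + c₀) (x (k + c₀))
  obtain ⟨h', hh'⟩ := hη (k + c₀) (x' (k + c₀))
  have e1 : (ρ (k + c₀)).comp h = (ρ (k + c₀)).comp h' := by
    rw [← hc, ← hc, hh, hh']
    exact hcx _
  have h2 : h - h' ∈ (J ^ (k + 1) • ⊤ : Submodule B (P →ₗ[B] Q)) := by
    apply hc₀ (k + 1) (h - h') Submodule.mem_top
    intro p
    rw [show k + 1 + c₀ = k + c₀ + 1 by omega, ← hρk, LinearMap.sub_apply, map_sub, sub_eq_zero]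
    exact LinearMap.congr_fun e1 p
  have h3 : η k h = η k h' := by
    have := hηk k _ h2
    rwa [map_sub, sub_eq_zero] at this
  rw [down_η η σ hσ x hx c₀ k h hh.symm, down_η η σ hσ x' hx' c₀ k h' hh'.symm, h3]

include J in
/-- every member of a compatible system of homomorphisms `P → Q/J^{k+1}Q` lifts to `P → Q`. -/
theorem alg_lift (hρ : ∀ k, Surjective (ρ k))
    (hρk : ∀ k q, ρ k q = 0 ↔ q ∈ (J ^ (k + 1) • ⊤ : Submodule B Q))
    (hτ : ∀ k q, τ k (ρ (k + 1) q) = ρ k q)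
    (ψ : ∀ k, P →ₗ[B] Qk k) (hψ : ∀ k, (τ k).comp (ψ (k + 1)) = ψ k) :
    ∀ k, ∃ h : P →ₗ[B] Q, (ρ k).comp h = ψ k := by
  obtain ⟨a, g, hg⟩ := Module.Finite.exists_fin' B P
  let res : ((Fin a → B) →ₗ[B] Q) →ₗ[B] (LinearMap.ker g →ₗ[B] Q) :=
    LinearMap.lcomp B Q (LinearMap.ker g).subtype
  obtain ⟨c₁, hc₁⟩ := arHom J (LinearMap.range res)
  intro k
  obtain ⟨w, hw⟩ := Module.projective_lifting_property (ρ (k + c₁)) ((ψ (k + c₁)).comp g) (hρ _)
  have hK : ∀ x : LinearMap.ker g, res w x ∈ (J ^ (k + 1 + c₁) • ⊤ : Submodule B Q) := by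
    intro x
    rw [show k + 1 + c₁ = k + c₁ + 1 by omega, ← hρk]
    have h0 := LinearMap.congr_fun hw x.1
    rw [LinearMap.comp_apply, LinearMap.comp_apply, LinearMap.mem_ker.1 x.2, map_zero] at h0
    exact h0
  have h1 := hc₁ (k + 1) (res w) ⟨w, rfl⟩ hK
  rw [LinearMap.range_eq_map, ← Submodule.map_smul''] at h1
  obtain ⟨w', hw', e⟩ := h1
  have hker : LinearMap.ker g ≤ LinearMap.ker (w - w') := by
    intro x hx
    rw [LinearMap.mem_ker, LinearMap.sub_apply, sub_eq_zero]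
    exact (LinearMap.congr_fun e ⟨x, hx⟩).symm
  let h : P →ₗ[B] Q := ((LinearMap.ker g).liftQ (w - w') hker).comp
    (g.quotKerEquivOfSurjective hg).symm.toLinearMap
  have hhg : ∀ y, h (g y) = w y - w' y := by
    intro y
    change ((LinearMap.ker g).liftQ (w - w') hker)
      ((g.quotKerEquivOfSurjective hg).symm (g y)) = _
    rw [LinearMap.quotKerEquivOfSurjective_symm_apply, Submodule.liftQ_apply]
    rfl
  refine ⟨h, ?_⟩
  apply LinearMap.ext
  intro p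
  obtain ⟨y, rfl⟩ := hg p
  rw [LinearMap.comp_apply, hhg, map_sub]
  have h0 : ρ k (w' y) = 0 := (hρk k _).2 (apply_mem_of_mem_smul_top _ w' hw' y)
  rw [h0, sub_zero]
  symm
  apply down_ρ ρ τ hτ ψ hψ c₁ k (g y) (w y)
  exact (LinearMap.congr_fun hw y).symm

include J in
/-- surjectivity of `lim Hom(P, Q)/J^{k+1} → lim Hom(P, Q/J^{k+1}Q)`. -/
theorem alg_surj
    (hηk : ∀ k (h : P →ₗ[B] Q), h ∈ (J ^ (k + 1) • ⊤ : Submodule B (P →ₗ[B] Q)) → η k h = 0)
    (hσ : ∀ k h, σ k (η (k + 1) h) = η k h)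
    (hρ : ∀ k, Surjective (ρ k))
    (hρk : ∀ k q, ρ k q = 0 ↔ q ∈ (J ^ (k + 1) • ⊤ : Submodule B Q))
    (hτ : ∀ k q, τ k (ρ (k + 1) q) = ρ k q)
    (hc : ∀ k h, c k (η k h) = (ρ k).comp h)
    (ψ : ∀ k, P →ₗ[B] Qk k) (hψ : ∀ k, (τ k).comp (ψ (k + 1)) = ψ k) :
    ∃ x : ∀ k, Hk k, (∀ k, σ k (x (k + 1)) = x k) ∧ ∀ k, c k (x k) = ψ k := by
  obtain ⟨c₂, hc₂⟩ := arHom J (⊤ : Submodule B (P →ₗ[B] Q))
  choose h hh using alg_lift J ρ τ hρ hρk hτ ψ hψ
  refine ⟨fun k => η k (h (k + c₂)), fun k => ?_, fun k => ?_⟩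
  · rw [hσ]
    have h2 : h (k + 1 + c₂) - h (k + c₂) ∈
        (J ^ (k + 1) • ⊤ : Submodule B (P →ₗ[B] Q)) := by
      apply hc₂ (k + 1) _ Submodule.mem_top
      intro p
      have e0 : k + 1 + c₂ = k + c₂ + 1 := by omega
      rw [e0, ← hρk, LinearMap.sub_apply, map_sub, sub_eq_zero]
      have e1 : ρ (k + c₂) (h (k + c₂ + 1) p) = ψ (k + c₂) p := by
        rw [← hτ, ← hψ (k + c₂), LinearMap.comp_apply, ← hh (k + c₂ + 1)]
        rfl
      rw [e1, ← hh (k + c₂)]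
      rfl
    have h3 := hηk k _ h2
    rwa [map_sub, sub_eq_zero] at h3
  · rw [hc]
    apply LinearMap.ext
    intro p
    rw [LinearMap.comp_apply]
    symm
    apply down_ρ ρ τ hτ ψ hψ c₂ k p (h (k + c₂) p)
    rw [← hh (k + c₂)]
    rfl

end Main

end Groth.Agent.LD.HF
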