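import Groth.Agent.Lib.Lead.QC.HomAffine

/-! # Gluing inverse limits of sections from affine opens -/

set_option autoImplicit false
universe u
open CategoryTheory Limits AlgebraicGeometry TopologicalSpace Opposite

namespace Groth.Agent.LD.HF

open Groth.Agent.LD

variable {X : Scheme.{u}} (S T : ℕ → X.Modules) (σ : ∀ k, S (k + 1) ⟶ S k)
  (τ : ∀ k, T (k + 1) ⟶ T k) (c : ∀ k, S k ⟶ T k)

lemma top_le_iSup_affineOpens : (⊤ : X.Opens) ≤ ⨆ V : X.affineOpens, V.1 := by
  intro x _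
  obtain ⟨V, hV, hxV, -⟩ := exists_isAffineOpen_mem_and_subset (x := x) (U := ⊤) trivial
  exact Opens.mem_iSup.mpr ⟨⟨V, hV⟩, hxV⟩

/-- **injectivity glues.** -/
theorem glob_inj
    (hinj : ∀ U : X.affineOpens, ∀ x x' : ∀ k, Γ(S k, U.1),
      (∀ k, (σ k).app U.1 (x (k + 1)) = x k) → (∀ k, (σ k).app U.1 (x' (k + 1)) = x' k) →
      (∀ k, (c k).app U.1 (x k) = (c k).app U.1 (x' k)) → x = x')
    (W : X.Opens) (x x' : ∀ k, Γ(S k, W))
    (hx : ∀ k, (σ k).app W (x (k + 1)) = x k) (hx' : ∀ k, (σ k).app W (x' (k + 1)) = x' k)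
    (hcx : ∀ k, (c k).app W (x k) = (c k).app W (x' k)) : x = x' := by
  funext k
  apply QC.section_ext_of_cover (S k) (fun V : {V : X.affineOpens // V.1 ≤ W} => V.1.1)
    (fun V => V.2) (QC.le_iSup_affineOpens W)
  intro V
  have h := hinj V.1 (fun k => (S k).presheaf.map (homOfLE V.2).op (x k))
    (fun k => (S k).presheaf.map (homOfLE V.2).op (x' k))
    (fun k => by rw [QC.app_res, hx]) (fun k => by rw [QC.app_res, hx'])
    (fun k => by rw [QC.app_res, QC.app_res, hcx])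
  exact congrFun h k

/-- **surjectivity glues.** -/
theorem glob_surj
    (hinj : ∀ U : X.affineOpens, ∀ x x' : ∀ k, Γ(S k, U.1),
      (∀ k, (σ k).app U.1 (x (k + 1)) = x k) → (∀ k, (σ k).app U.1 (x' (k + 1)) = x' k) →
      (∀ k, (c k).app U.1 (x k) = (c k).app U.1 (x' k)) → x = x')
    (hsurj : ∀ U : X.affineOpens, ∀ t : ∀ k, Γ(T k, U.1),
      (∀ k, (τ k).app U.1 (t (k + 1)) = t k) →
      ∃ x : ∀ k, Γ(S k, U.1), (∀ k, (σ k).app U.1 (x (k + 1)) = x k) ∧
        ∀ k, (c k).app U.1 (x k) = t k)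
    (t : ∀ k, Γ(T k, ⊤)) (ht : ∀ k, (τ k).app ⊤ (t (k + 1)) = t k) :
    ∃ x : ∀ k, Γ(S k, ⊤), (∀ k, (σ k).app ⊤ (x (k + 1)) = x k) ∧
      ∀ k, (c k).app ⊤ (x k) = t k := by
  choose xs hxs hcs using fun V : X.affineOpens =>
    hsurj V (fun k => (T k).presheaf.map (homOfLE (le_top : V.1 ≤ ⊤)).op (t k))
      (fun k => by rw [QC.app_res, ht])
  have key : ∀ (V V' : X.affineOpens) (h : V'.1 ≤ V.1) (k : ℕ),
      (S k).presheaf.map (homOfLE h).op (xs V k) = xs V' k := by
    intro V V' h k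
    have := hinj V' (fun k => (S k).presheaf.map (homOfLE h).op (xs V k)) (xs V')
      (fun k => by rw [QC.app_res, hxs]) (hxs V')
      (fun k => by rw [QC.app_res, hcs, hcs, QC.res_res])
    exact congrFun this k
  have hglue : ∀ k, ∃ s : Γ(S k, ⊤), ∀ V : X.affineOpens,
      (S k).presheaf.map (homOfLE (le_top : V.1 ≤ ⊤)).op s = xs V k := by
    intro k
    have hcompat : TopCat.Presheaf.IsCompatible (S k).presheaf
        (fun V : X.affineOpens => V.1) (fun V => xs V k) := by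
      intro V V'
      change (S k).presheaf.map (homOfLE (inf_le_left : V.1 ⊓ V'.1 ≤ V.1)).op (xs V k) =
        (S k).presheaf.map (homOfLE (inf_le_right : V.1 ⊓ V'.1 ≤ V'.1)).op (xs V' k)
      apply QC.section_ext_of_cover (S k)
        (fun Z : {Z : X.affineOpens // Z.1 ≤ V.1 ⊓ V'.1} => Z.1.1) (fun Z => Z.2)
        (QC.le_iSup_affineOpens _)
      intro Z
      rw [QC.res_res, QC.res_res, key V Z.1 (Z.2.trans inf_le_left) k,
        key V' Z.1 (Z.2.trans inf_le_right) k]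
    obtain ⟨s, hs, -⟩ := TopCat.Sheaf.existsUnique_gluing' ⟨_, (S k).isSheaf⟩
      (fun V : X.affineOpens => V.1) ⊤ (fun V => homOfLE le_top) top_le_iSup_affineOpens
      (fun V => xs V k) hcompat
    exact ⟨s, hs⟩
  choose s hs using hglue
  refine ⟨s, fun k => ?_, fun k => ?_⟩
  · apply QC.section_ext_of_cover (S k) (fun V : X.affineOpens => V.1) (fun V => le_top)
      top_le_iSup_affineOpens
    intro V
    rw [← QC.app_res, hs, hs, hxs]
  · apply QC.section_ext_of_cover (T k) (fun V : X.affineOpens => V.1) (fun V => le_top)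
      top_le_iSup_affineOpens
    intro V
    rw [← QC.app_res, hs, hcs]

end Groth.Agent.LD.HF
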