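import Groth.Agent.Lib.Lead.HF.Local
import Groth.Agent.Lib.Lead.HF.Global
import Groth.Agent.Lib.Lead.CohLES.H0
import Groth.Agent.Lib.Lead.FF.ML
import Groth.Agent.Lib.Lead.PS.Basic
import Groth.Agent.Lib.Lead.QC.Devissage
import Groth.Agent.Lib.Helper1.ProperOverClSub

/-! # Full faithfulness of the completion functor on coherent modules -/

set_option autoImplicit false
set_option linter.style.haveILetI false
universe u
open CategoryTheory Limits AlgebraicGeometry TopologicalSpace Opposite

noncomputable section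

namespace Groth.Agent.LD.HF

open Groth.Agent.H2.HomSh Groth.Agent.LD Groth.Agent.H2.FormalEq Groth.Agent.H2.FormalQ

attribute [-instance] Groth.Agent.LD.QC.stalkModule

variable {A : Type u} [CommRing A] (I : Ideal A) {X : Scheme.{u}}
  [X.Over (Spec (CommRingCat.of A))]

/-- compatible systems of sections of `F/I^{k+1}F` lift to `F` when `H⁰(F) → lim H⁰(F/I^{k+1})`
is surjective. -/
lemma exists_section_of_surj (F : X.Modules)
    (hsurj : Function.Surjective (Formal.toHHlim I F 0))
    (x : ∀ k, Γ(Formal.modPow I (k + 1) F, ⊤))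
    (hx : ∀ k, (Formal.modPowTrans I (k + 1) F).app ⊤ (x (k + 1)) = x k) :
    ∃ s : Γ(F, ⊤), ∀ k, (Formal.modPowπ I (k + 1) F).app ⊤ s = x k := by
  have hy : (fun k => (CL.HH0Equiv (Formal.modPow I (k + 1) F)).symm (x k)) ∈
      Formal.HHlim I F 0 := by
    intro k
    refine (CL.HH0Equiv _).injective ?_
    rw [AddEquiv.apply_symm_apply]
    exact (CL.HH0Equiv_map (Formal.modPowTrans I (k + 1) F) _).trans
      (by rw [AddEquiv.apply_symm_apply]; exact hx k)
  obtain ⟨z, hz⟩ := hsurj ⟨_, hy⟩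
  refine ⟨CL.HH0Equiv F z, fun k => ?_⟩
  have h1 : CL.HHmapZ (Formal.modPowπ I (k + 1) F) 0 z =
      (CL.HH0Equiv (Formal.modPow I (k + 1) F)).symm (x k) :=
    congrArg (fun w : Formal.HHlim I F 0 => w.1 k) hz
  rw [← CL.HH0Equiv_map, h1, AddEquiv.apply_symm_apply]

/-- global sections of `F` are determined by their images in `F/I^{k+1}F` when
`H⁰(F) → lim H⁰(F/I^{k+1})` is injective. -/
lemma section_ext_of_inj (F : X.Modules)
    (hinj : Function.Injective (Formal.toHHlim I F 0)) (s s' : Γ(F, ⊤))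
    (h : ∀ k, (Formal.modPowπ I (k + 1) F).app ⊤ s = (Formal.modPowπ I (k + 1) F).app ⊤ s') :
    s = s' := by
  have h0 : (CL.HH0Equiv F).symm s = (CL.HH0Equiv F).symm s' := by
    apply hinj
    apply Subtype.ext
    funext k
    change CL.HHmapZ (Formal.modPowπ I (k + 1) F) 0 _ =
      CL.HHmapZ (Formal.modPowπ I (k + 1) F) 0 _
    apply (CL.HH0Equiv _).injective
    rw [CL.HH0Equiv_map, CL.HH0Equiv_map, AddEquiv.apply_symm_apply,
      AddEquiv.apply_symm_apply, h]
  exact (CL.HH0Equiv F).symm.injective h0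

variable [IsLocallyNoetherian X] (M N : X.Modules)

/-- the support of the sheaf Hom. -/
lemma support_homSh_subset (hM : Coh.IsCoh M) :
    CohB1.support (RefHull.homSh M N) ⊆ CohB1.support M ∩ CohB1.support N := by
  intro x hx
  have hinj := (evalStalk_bijective (F := M) (G := N)
    (QC.isFinitePresentation_of_qc_ft M hM.1 hM.2) x).1
  constructor
  · intro hsub
    apply hx
    haveI := hsub
    haveI : Subsingleton (RefHull.StalkHom M N x) :=
      ⟨fun f g => LinearMap.ext fun v => by rw [Subsingleton.elim v 0, map_zero, map_zero]⟩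
    exact hinj.subsingleton
  · intro hsub
    apply hx
    haveI := hsub
    haveI : Subsingleton (RefHull.StalkHom M N x) :=
      ⟨fun f g => LinearMap.ext fun v => Subsingleton.elim _ _⟩
    exact hinj.subsingleton

/-- **full faithfulness of completion, abstract form with hypotheses on sections**: if compatible
systems of global sections of `𝓗om(M, N)/I^{k+1}` lift uniquely to global sections of
`𝓗om(M, N)`, every morphism of the completed systems comes from a unique morphism `M ⟶ N`. -/
theorem existsUnique_hom' (hM : Coh.IsCoh M) (hN : Coh.IsCoh N)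
    (hker : ∀ (U : X.affineOpens) (k : ℕ) (q : Γ(N, U.1)),
      (Formal.modPowπ I (k + 1) N).app U.1 q = 0 →
      q ∈ ((Ideal.map (φU U.1) I) ^ (k + 1) • ⊤ : Submodule Γ(X, U.1) Γ(N, U.1)))
    (hE : ∀ x : ∀ k, Γ(Formal.modPow I (k + 1) (RefHull.homSh M N), ⊤),
      (∀ k, (Formal.modPowTrans I (k + 1) (RefHull.homSh M N)).app ⊤ (x (k + 1)) = x k) →
      ∃ s : Γ(RefHull.homSh M N, ⊤),
        ∀ k, (Formal.modPowπ I (k + 1) (RefHull.homSh M N)).app ⊤ s = x k)
    (hU : ∀ s s' : Γ(RefHull.homSh M N, ⊤),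
      (∀ k, (Formal.modPowπ I (k + 1) (RefHull.homSh M N)).app ⊤ s =
        (Formal.modPowπ I (k + 1) (RefHull.homSh M N)).app ⊤ s') → s = s')
    (ψ : Formal.completion I M ⟶ Formal.completion I N) :
    ∃! φ : M ⟶ N, ∀ n : ℕ,
      Formal.modPowπ I (n + 1) M ≫ ψ.app (op n) = φ ≫ Formal.modPowπ I (n + 1) N := by
  have hloc := fun U : X.affineOpens => local_bij I M N hM hN U.2 (hker U)
  have hψ' : ∀ k, Formal.modPowπ I (k + 1 + 1) M ≫
      (ψ.app (op (k + 1)) : Formal.modPow I (k + 1 + 1) M ⟶ Formal.modPow I (k + 1 + 1) N) ≫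
        Formal.modPowTrans I (k + 1) N =
      Formal.modPowπ I (k + 1) M ≫
        (ψ.app (op k) : Formal.modPow I (k + 1) M ⟶ Formal.modPow I (k + 1) N) := by
    intro k
    have e1 : (Formal.completion I N).map (homOfLE (Nat.le_add_right k 1)).op =
        Formal.modPowTrans I (k + 1) N := by
      unfold Formal.completion
      exact Functor.ofOpSequence_map_homOfLE_succ _ k
    have e2 := ψ.naturality (homOfLE (Nat.le_add_right k 1)).op
    rw [← e1]
    refine (congrArg (fun f => Formal.modPowπ I (k + 1 + 1) M ≫ f) e2.symm).trans ?_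
    exact (Category.assoc (Formal.modPowπ I (k + 1 + 1) M)
      ((Formal.completion I M).map (homOfLE (Nat.le_add_right k 1)).op) (ψ.app (op k))).symm.trans
      (congrArg (fun f => f ≫ ψ.app (op k)) (FF.π_completion_map I M (Nat.le_add_right k 1)))
  -- the compatible system of sections
  let t : ∀ k, Γ(RefHull.homSh M (Formal.modPow I (k + 1) N), ⊤) := fun k =>
    RefHull.ofHom (Formal.modPowπ I (k + 1) M ≫
      (ψ.app (op k) : Formal.modPow I (k + 1) M ⟶ Formal.modPow I (k + 1) N)) ⊤
  have ht : ∀ k, (postHom M (Formal.modPowTrans I (k + 1) N)).app ⊤ (t (k + 1)) = t k := by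
    intro k
    rw [postHom_app]
    change postSec _ (RefHull.ofHom _ ⊤) = RefHull.ofHom _ ⊤
    rw [postSec_ofHom]
    exact congrArg (fun f => RefHull.ofHom f ⊤)
      ((Category.assoc (Formal.modPowπ I (k + 1 + 1) M)
        (ψ.app (op (k + 1)) : Formal.modPow I (k + 1 + 1) M ⟶ Formal.modPow I (k + 1 + 1) N)
        (Formal.modPowTrans I (k + 1) N)).trans (hψ' k))
  obtain ⟨x, hx, hcx⟩ := glob_surj
    (fun k => Formal.modPow I (k + 1) (RefHull.homSh M N))
    (fun k => RefHull.homSh M (Formal.modPow I (k + 1) N))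
    (fun k => Formal.modPowTrans I (k + 1) (RefHull.homSh M N))
    (fun k => postHom M (Formal.modPowTrans I (k + 1) N)) (fun k => cmp M N I k)
    (fun U => (hloc U).1) (fun U => (hloc U).2) t ht
  obtain ⟨s, hs⟩ := hE x hx
  have hts : ∀ k, postSec (Formal.modPowπ I (k + 1) N) s = t k := by
    intro k
    rw [← cmp_app_π, hs, hcx]
  have hφ : ∀ n, RefHull.ofHom (Formal.modPowπ I (n + 1) M ≫
      (ψ.app (op n) : Formal.modPow I (n + 1) M ⟶ Formal.modPow I (n + 1) N)) ⊤ =
      RefHull.ofHom (homOfSec s ≫ Formal.modPowπ I (n + 1) N) ⊤ := by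
    intro n
    have e1 : RefHull.ofHom (homOfSec s ≫ Formal.modPowπ I (n + 1) N) ⊤ =
        postSec (Formal.modPowπ I (n + 1) N) (RefHull.ofHom (homOfSec s) ⊤) :=
      (postSec_ofHom _ _ _).symm
    rw [e1, ofHom_homOfSec, hts]
  refine ⟨homOfSec s, fun n => ofHom_top_injective (hφ n), ?_⟩
  intro φ' hφ'
  have e : RefHull.ofHom φ' ⊤ = s := by
    apply hU
    have h0 := glob_inj
      (fun k => Formal.modPow I (k + 1) (RefHull.homSh M N))
      (fun k => RefHull.homSh M (Formal.modPow I (k + 1) N))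
      (fun k => Formal.modPowTrans I (k + 1) (RefHull.homSh M N)) (fun k => cmp M N I k)
      (fun U => (hloc U).1) ⊤
      (fun k => (Formal.modPowπ I (k + 1) (RefHull.homSh M N)).app ⊤ (RefHull.ofHom φ' ⊤))
      (fun k => (Formal.modPowπ I (k + 1) (RefHull.homSh M N)).app ⊤ s)
      (fun k => congrArg (fun φ => (Scheme.Modules.Hom.app φ ⊤) (RefHull.ofHom φ' ⊤))
        (Formal.modPowπ_trans I (k + 1) (RefHull.homSh M N)))
      (fun k => congrArg (fun φ => (Scheme.Modules.Hom.app φ ⊤) s)
        (Formal.modPowπ_trans I (k + 1) (RefHull.homSh M N)))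
      (fun k => by
        rw [cmp_app_π, cmp_app_π, hts, postSec_ofHom, ← hφ' k]
        rfl)
    exact fun k => congrFun h0 k
  rw [← homOfSec_ofHom φ', e]

/-- **full faithfulness of completion, abstract form**: if the comparison map
`H⁰(X, 𝓗om(M, N)) → lim H⁰(X, 𝓗om(M, N)/I^{k+1})` is bijective, every morphism of the completed
systems comes from a unique morphism `M ⟶ N`. -/
theorem existsUnique_hom (hM : Coh.IsCoh M) (hN : Coh.IsCoh N)
    (hker : ∀ (U : X.affineOpens) (k : ℕ) (q : Γ(N, U.1)),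
      (Formal.modPowπ I (k + 1) N).app U.1 q = 0 →
      q ∈ ((Ideal.map (φU U.1) I) ^ (k + 1) • ⊤ : Submodule Γ(X, U.1) Γ(N, U.1)))
    (hbij : Function.Bijective (Formal.toHHlim I (RefHull.homSh M N) 0))
    (ψ : Formal.completion I M ⟶ Formal.completion I N) :
    ∃! φ : M ⟶ N, ∀ n : ℕ,
      Formal.modPowπ I (n + 1) M ≫ ψ.app (op n) = φ ≫ Formal.modPowπ I (n + 1) N :=
  existsUnique_hom' I M N hM hN hker
    (exists_section_of_surj I (RefHull.homSh M N) hbij.2)
    (section_ext_of_inj I (RefHull.homSh M N) hbij.1) ψ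

/-- **S4473** -/
theorem existsUnique_hom_of_proper_support_inter [IsNoetherianRing A] [IsAdicComplete I A]
    [LocallyOfFiniteType (X ↘ Spec (CommRingCat.of A))]
    [QuasiCompact (X ↘ Spec (CommRingCat.of A))]
    (hbij : ∀ (F : X.Modules), Coh.IsCoh F →
      ClSub.IsProperOver (X ↘ Spec (CommRingCat.of A)) (CohB1.support F) →
      Function.Bijective (Formal.toHHlim I F 0))
    (hM : Coh.IsCoh M) (hN : Coh.IsCoh N)
    (hs : ClSub.IsProperOver (X ↘ Spec (CommRingCat.of A)) (CohB1.support M ∩ CohB1.support N))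
    (ψ : Formal.completion I M ⟶ Formal.completion I N) :
    ∃! φ : M ⟶ N, ∀ n : ℕ,
      Formal.modPowπ I (n + 1) M ≫ ψ.app (op n) = φ ≫ Formal.modPowπ I (n + 1) N := by
  have hH : Coh.IsCoh (RefHull.homSh M N) := isCoh_homSh hM hN
  refine existsUnique_hom I M N hM hN
    (fun U k q hq => mem_of_modPowπ_eq_zero I N hN U.2 (k + 1) q hq) ?_ ψ
  exact hbij _ hH (PS.isProperOver_of_subset _ hs (QC.isClosed_support_of_isCoh hH)
    (support_homSh_subset M N hM))

end Groth.Agent.LD.HF
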